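import Mathlib
import Cfsg.Agent.Lib.Char.DegreeP
import Cfsg.Agent.Lib.Char.ExtDet
import Cfsg.Agent.Lib.Char.Galois
import Cfsg.Agent.Lib.Core.Hall

/-! Blichfeldt: a linear group of degree `n` has an abelian Hall subgroup for the primes
exceeding `n + 1`. -/

set_option autoImplicit false
set_option linter.style.haveILetI false

universe u

namespace H31

open Cfsg
open scoped ComplexConjugate commutatorElement Pointwise

/-- `G` has a faithful character of degree at most `n`. -/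
def LinDeg (n : ℕ) (G : Type*) [Group G] : Prop :=
  ∃ χ : G → ℂ, IsCharacter G χ ∧ (∀ g, χ g = χ 1 → g = 1) ∧ ∃ m ≤ n, χ 1 = (m : ℕ)

variable {G : Type*} [Group G]

theorem LinDeg.of_injective {n : ℕ} (h : LinDeg n G) {K : Type*} [Group K] (f : K →* G)
    (hf : Function.Injective f) : LinDeg n K := by
  obtain ⟨χ, h1, h2, m, hm, h3⟩ := h
  refine ⟨fun k => χ (f k), H6.isCharacter_comp f h1, fun g hg => ?_, m, hm, by simpa using h3⟩
  apply hf
  rw [map_one]
  exact h2 _ (by simpa using hg)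

theorem LinDeg.subgroup {n : ℕ} (h : LinDeg n G) (H : Subgroup G) : LinDeg n H :=
  h.of_injective H.subtype H.subtype_injective

theorem LinDeg.mono {m n : ℕ} (h : LinDeg m G) (hmn : m ≤ n) : LinDeg n G := by
  obtain ⟨χ, h1, h2, k, hk, h3⟩ := h
  exact ⟨χ, h1, h2, k, hk.trans hmn, h3⟩

theorem linDeg_quotient_charKer [Finite G] {n m : ℕ} {χ : G → ℂ} (h : IsCharacter G χ)
    (hm : m ≤ n) (h1 : χ 1 = m) : LinDeg n (G ⧸ H6.charKer χ) := by
  obtain ⟨ψ, hψ, hψ'⟩ := H6.exists_char_quotient h (H6.charKer χ)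
    (fun x hx => (H6.mem_charKer h).1 hx)
  have e1 : ψ 1 = χ 1 := hψ' 1
  refine ⟨ψ, hψ, fun g hg => ?_, m, hm, by rw [e1, h1]⟩
  obtain ⟨x, rfl⟩ := QuotientGroup.mk_surjective g
  rw [hψ', e1] at hg
  exact (QuotientGroup.eq_one_iff x).2 ((H6.mem_charKer h).2 hg)

theorem LinDeg.comm [Finite G] {n : ℕ} (h : LinDeg n G)
    (hp : ∀ p : ℕ, p.Prime → p ∣ Nat.card G → n < p) (a b : G) : a * b = b * a := by
  obtain ⟨χ, h1, h2, m, hm, h3⟩ := h
  have := h2 _ (H6.char_commutator_of_lt_primes h1 h3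
    (fun p hp' hd => lt_of_le_of_lt hm (hp p hp' hd))
    (x := ⁅a, b⁆) (Subgroup.commutator_mem_commutator (Subgroup.mem_top a) (Subgroup.mem_top b)))
  exact commutatorElement_eq_one_iff_mul_comm.1 this

theorem LinDeg.comm_subgroup [Finite G] {n : ℕ} (h : LinDeg n G) {H : Subgroup G}
    (hp : ∀ p : ℕ, p.Prime → p ∣ Nat.card H → n < p) {a b : G} (ha : a ∈ H) (hb : b ∈ H) :
    a * b = b * a :=
  congrArg Subtype.val ((h.subgroup H).comm hp ⟨a, ha⟩ ⟨b, hb⟩)

/-- A character constant on the generators of a subgroup of prime order `p`, not containing it in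
the kernel, has degree at least `p - 1`. -/
theorem le_degree_succ_of_pow_eq [Finite G] {χ : G → ℂ} (h : IsCharacter G χ) {n p : ℕ}
    (hn : χ 1 = n) (hp : p.Prime) {x : G} (hx : orderOf x = p) (hne : χ x ≠ χ 1)
    (hrat : ∀ k : ℕ, k.Coprime p → χ (x ^ k) = χ x) : p ≤ n + 1 := by
  classical
  obtain ⟨c, hc⟩ := H8.exists_int_of_forall_pow_eq (H6.char_isGen h) x (by rw [hx]; exact hrat)
  obtain ⟨n', ω, hn', hω, hsum⟩ := H6.char_pow_eq_sum h hp.ne_zero (hx ▸ pow_orderOf_eq_one x)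
  have hnn : n' = n := by rw [hn] at hn'; exact_mod_cast hn'.symm
  subst hnn
  have e1 : ∑ k ∈ Finset.range p, χ (x ^ k) = n' + (p - 1 : ℂ) * c := by
    rw [Finset.range_eq_Ico, Finset.sum_eq_sum_Ico_succ_bot hp.pos, pow_zero, hn]
    congr 1
    rw [Finset.sum_congr rfl (g := fun _ => (c : ℂ))]
    · simp only [zero_add, Finset.sum_const, Nat.card_Ico, nsmul_eq_mul]
      rw [Nat.cast_sub hp.one_le]; simp
    · intro k hk
      rw [Finset.mem_Ico] at hk
      rw [hrat k, hc]
      exact (Nat.coprime_of_lt_prime (by omega) hk.2 hp).symm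
  have e2 : ∑ k ∈ Finset.range p, χ (x ^ k) =
      p * ((Finset.univ.filter fun i => ω i = 1).card : ℕ) := by
    simp only [hsum]
    rw [Finset.sum_comm, Finset.card_filter]
    push_cast
    rw [Finset.mul_sum]
    refine Finset.sum_congr rfl fun i _ => ?_
    split_ifs with hi
    · simp [hi]
    · have := mul_geom_sum (ω i) p
      rw [hω i, sub_self] at this
      rw [mul_zero]
      exact (mul_eq_zero.1 this).resolve_left (sub_ne_zero.2 hi)
  set a : ℕ := (Finset.univ.filter fun i => ω i = 1).card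
  have e3 : (n' : ℤ) + (p - 1) * c = p * a := by
    have := e1.symm.trans e2
    exact_mod_cast this
  have hle : c ≤ n' := by
    have := H6.char_norm_le h x
    rw [hc, hn] at this
    simp only [Complex.norm_intCast, Complex.norm_natCast] at this
    have h2 : (c : ℝ) ≤ n' := le_trans (le_abs_self _) this
    exact_mod_cast h2
  have hne' : c ≠ n' := by
    intro h'
    apply hne
    rw [hc, hn, h']; simp
  have hp2 : (2 : ℤ) ≤ p := by exact_mod_cast hp.two_le
  have e4 : (n' : ℤ) - c = p * (a - c) := by linarith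
  have e5 : 0 < (a : ℤ) - c := by
    by_contra hcon
    have : (p : ℤ) * (a - c) ≤ 0 := mul_nonpos_of_nonneg_of_nonpos (by omega) (by omega)
    omega
  have e6 : (p : ℤ) ≤ n' - c := by nlinarith
  have e7 : (0 : ℤ) ≤ a := Int.natCast_nonneg a
  have : (p : ℤ) ≤ n' + 1 := by nlinarith
  exact_mod_cast this

/-- A faithful character of degree `< p - 1` is moved by a Galois automorphism fixing the
`p'`-roots of unity. -/
theorem exists_pow_ne_of_lt [Finite G] {χ : G → ℂ} (h : IsCharacter G χ)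
    (hf : ∀ g, χ g = χ 1 → g = 1) {n p : ℕ} (hn : χ 1 = n) (hp : p.Prime) (hpG : p ∣ Nat.card G)
    (hlt : n + 1 < p) : ∃ m : ℕ, m.Coprime (Nat.card G) ∧ (∀ g : G, ¬ p ∣ orderOf g → g ^ m = g) ∧
      (fun g => χ (g ^ m)) ≠ χ := by
  haveI := Fact.mk hp
  obtain ⟨x, hx⟩ := exists_prime_orderOf_dvd_card' p hpG
  by_contra hcon
  push Not at hcon
  have hx1 : x ≠ 1 := by
    rintro rfl
    rw [orderOf_one] at hx
    exact hp.one_lt.ne hx
  refine absurd (le_degree_succ_of_pow_eq h hn hp hx (fun h' => hx1 (hf x h')) ?_) (by omega)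
  intro k hk
  obtain ⟨a, r, hr, hG⟩ := Nat.exists_eq_pow_mul_and_not_dvd (Nat.card_pos (α := G)).ne' p
    hp.ne_one
  have hcop : Nat.Coprime p r := (Nat.Prime.coprime_iff_not_dvd hp).2 hr
  obtain ⟨m, hm1, hm2⟩ := Nat.chineseRemainder hcop k 1
  have hmc : m.Coprime (Nat.card G) := by
    rw [hG]
    apply Nat.Coprime.mul_right
    · apply Nat.Coprime.pow_right
      rw [Nat.Coprime, hm1.gcd_eq]; exact hk
    · rw [Nat.Coprime, hm2.gcd_eq]; simp
  have := hcon m hmc (fun g hg => by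
    have h1 : orderOf g ∣ r := by
      have h2 := orderOf_dvd_natCard g
      rw [hG] at h2
      exact (Nat.Coprime.pow_right a
        ((Nat.Prime.coprime_iff_not_dvd hp).2 hg).symm).dvd_of_dvd_mul_left h2
    conv_rhs => rw [← pow_one g]
    rw [pow_eq_pow_iff_modEq]
    exact hm2.of_dvd h1)
  rw [← congrFun this x]
  congr 1
  rw [pow_eq_pow_iff_modEq, hx]
  exact hm1.symm

/-- An irreducible character that is neither `p`-rational nor `q`-rational forces an element of
order divisible by `p q`. -/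
theorem exists_dvd_orderOf_of_pow_ne [Finite G] {χ : G → ℂ} (h : IsIrrCharacter G χ) {p q m l : ℕ}
    (hm : m.Coprime (Nat.card G)) (hl : l.Coprime (Nat.card G))
    (hm' : ∀ g : G, ¬ p ∣ orderOf g → g ^ m = g) (hl' : ∀ g : G, ¬ q ∣ orderOf g → g ^ l = g)
    (hmne : (fun g => χ (g ^ m)) ≠ χ) (hlne : (fun g => χ (g ^ l)) ≠ χ) :
    ∃ g : G, p ∣ orderOf g ∧ q ∣ orderOf g := by
  classical
  haveI := Fintype.ofFinite G
  by_contra hcon
  push Not at hcon
  have key : χ + (fun g => χ (g ^ (m * l))) = (fun g => χ (g ^ m)) + (fun g => χ (g ^ l)) := by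
    funext g
    simp only [Pi.add_apply]
    by_cases hp : p ∣ orderOf g
    · rw [mul_comm, pow_mul, hl' g (hcon g hp), add_comm]
    · rw [pow_mul, hm' g hp]
  have h1 := congrArg (fun f => classInner f χ) key
  simp only [H6.classInner_add_left] at h1
  rw [H6.irr_inner_self h, H6.irr_inner_ne (H8.isIrrCharacter_pow h hm) h hmne,
    H6.irr_inner_ne (H8.isIrrCharacter_pow h hl) h hlne] at h1
  obtain ⟨k, hk⟩ := H6.char_inner_nat (H6.irr_isCharacter
    (H8.isIrrCharacter_pow h (hm.mul_left hl))) (H6.irr_isCharacter h)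
  rw [hk] at h1
  have : (1 + k : ℕ) = 0 := by exact_mod_cast (by simpa using h1 : (1 + k : ℂ) = 0)
  omega

/-- A subgroup of index prime to `p` contains a conjugate of any Sylow `p`-subgroup. -/
theorem exists_sylow_le_of_not_dvd_index [Finite G] {p : ℕ} [Fact p.Prime] {H : Subgroup G}
    (h : ¬ p ∣ H.index) : ∃ P : Sylow p G, (P : Subgroup G) ≤ H := by
  obtain ⟨Q⟩ := (inferInstance : Nonempty (Sylow p H))
  have h1 : IsPGroup p ((Q : Subgroup H).map H.subtype) := Q.isPGroup'.map _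
  have h2 : ¬ p ∣ ((Q : Subgroup H).map H.subtype).index := by
    rw [Subgroup.index_map_subtype]
    intro hd
    rcases (Nat.Prime.dvd_mul Fact.out).1 hd with h' | h'
    · exact Q.not_dvd_index h'
    · exact h h'
  exact ⟨h1.toSylow h2, Subgroup.map_subtype_le _⟩

/-- A central element of prime order `p` not dividing the degree of a faithful irreducible
character can be moved to the kernel by a linear twist. -/
theorem exists_twist_central [Finite G] {χ : G → ℂ} (h : IsIrrCharacter G χ)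
    (hf : ∀ g, χ g = χ 1 → g = 1) {m p : ℕ} (hm : χ 1 = m) (hp : p.Prime) (hpm : ¬ p ∣ m) {z : G}
    (hz : z ∈ Subgroup.center G) (ho : z ^ p = 1) : ∃ ψ : G → ℂ, IsIrrCharacter G ψ ∧ ψ 1 = m ∧
      z ∈ H6.charKer ψ ∧ H6.charKer ψ ≤ Subgroup.center G := by
  obtain ⟨d, ρ, hρ, rfl⟩ := h
  have hd : d = m := by
    rw [Representation.char_one] at hm
    simpa using hm
  subst hd
  obtain ⟨c, hc⟩ := H6.schur_scalar ρ (ρ z) (fun g => by
    rw [← Module.End.mul_eq_comp, ← Module.End.mul_eq_comp, ← map_mul, ← map_mul,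
      Subgroup.mem_center_iff.1 hz g])
  have hd0 : d ≠ 0 := by rintro rfl; exact hpm (dvd_zero p)
  have hχz : ρ.character z = d * c := by
    simp [Representation.character, hc, mul_comm]
  have hcp : c ^ p = 1 := by
    have h1 : ρ (z ^ p) = (c ^ p) • LinearMap.id := by
      rw [map_pow, hc, smul_pow]
      congr 1
      exact one_pow p
    rw [ho, map_one] at h1
    have h2 := congrArg (LinearMap.trace ℂ (Fin d → ℂ)) h1
    simp only [LinearMap.trace_one, map_smul, LinearMap.trace_id, smul_eq_mul] at h2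
    have h3 : ((Module.finrank ℂ (Fin d → ℂ) : ℕ) : ℂ) ≠ 0 := by simpa using hd0
    exact (mul_right_cancel₀ h3 (by rw [one_mul]; exact h2)).symm
  have hdet : ((detHom ρ.character z : ℂˣ) : ℂ) = c ^ d := by
    rw [← detChar_apply, detChar_character, hc]; simp
  obtain ⟨k, hk⟩ : ∃ k : ℕ, p ∣ d * k + 1 := by
    have hcop : Nat.Coprime d p := ((Nat.Prime.coprime_iff_not_dvd hp).2 hpm).symm
    obtain ⟨k, -, hk⟩ := Nat.exists_mul_mod_eq_one_of_coprime hcop hp.one_lt
    refine ⟨k * (p - 1), ?_⟩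
    have h1 : d * k ≡ 1 [MOD p] := by
      rw [Nat.ModEq, hk, Nat.mod_eq_of_lt hp.one_lt]
    have h2 : d * (k * (p - 1)) + 1 ≡ 1 * (p - 1) + 1 [MOD p] := by
      rw [← mul_assoc]
      exact (h1.mul_right _).add_right 1
    rw [one_mul, Nat.sub_add_cancel hp.one_le] at h2
    exact (Nat.modEq_zero_iff_dvd).1 (h2.trans (Nat.modEq_zero_iff_dvd.2 dvd_rfl))
  have hirr : IsIrrCharacter G ρ.character := ⟨d, ρ, hρ, rfl⟩
  have hψ := H6.isIrrCharacter_mul_hom hirr (detHom ρ.character ^ k)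
  refine ⟨_, hψ, by simp [hm], ?_, ?_⟩
  · rw [H6.mem_charKer (H6.irr_isCharacter hψ)]
    simp only [MonoidHom.pow_apply, Units.val_pow_eq_pow_val, hdet, hχz, map_one, Units.val_one,
      mul_one, hm]
    obtain ⟨j, hj⟩ := hk
    rw [mul_assoc, ← pow_mul, ← pow_succ', hj, pow_mul, hcp, one_pow, mul_one]
  · intro g hg
    rw [H6.mem_charKer (H6.irr_isCharacter hψ)] at hg
    have h1 := congrArg norm hg
    have hn1 : ‖(((detHom ρ.character ^ k) g : ℂˣ) : ℂ)‖ = 1 := by
      have : (((detHom ρ.character ^ k) g : ℂˣ) : ℂ) ^ (orderOf g) = 1 := by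
        rw [← Units.val_pow_eq_pow_val, ← map_pow, pow_orderOf_eq_one, map_one, Units.val_one]
      exact Complex.norm_eq_one_of_pow_eq_one this (orderOf_pos g).ne'
    simp only [norm_mul, hn1, mul_one, map_one, Units.val_one] at h1
    rw [Subgroup.mem_center_iff]
    intro y
    have := hf _ (char_commutator_of_norm_eq (H6.irr_isCharacter hirr) h1 y)
    exact (commutatorElement_eq_one_iff_mul_comm.1 this).symm

/-- A faithful character either has a faithful irreducible constituent, or all its constituents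
have nontrivial kernels that intersect trivially. -/
theorem LinDeg.exists_irr_or [Finite G] {n : ℕ} (h : LinDeg n G) :
    (∃ ψ : G → ℂ, IsIrrCharacter G ψ ∧ (∀ g, ψ g = ψ 1 → g = 1) ∧ ∃ m ≤ n, ψ 1 = (m : ℕ)) ∨
    ∃ S : Set (Subgroup G), (∀ K ∈ S, ∃ _ : K.Normal, K ≠ ⊥ ∧ LinDeg n (G ⧸ K)) ∧
      ∀ x : G, (∀ K ∈ S, x ∈ K) → x = 1 := by
  haveI := Fintype.ofFinite G
  obtain ⟨χ, h1, h2, m, hm, h3⟩ := h
  have hdeg : ∀ ψ, IsIrrCharacter G ψ → classInner χ ψ ≠ 0 → ∃ k ≤ n, ψ 1 = (k : ℕ) := by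
    intro ψ hψ hne
    obtain ⟨k, -, hk⟩ := H6.irr_one_pos hψ
    have := H6.irr_one_le_of_inner_ne_zero h1 hψ hne
    rw [hk, h3] at this
    simp only [Complex.natCast_re, Nat.cast_le] at this
    exact ⟨k, this.trans hm, hk⟩
  by_cases hc : ∃ ψ, IsIrrCharacter G ψ ∧ classInner χ ψ ≠ 0 ∧ H6.charKer ψ = ⊥
  · obtain ⟨ψ, hψ, hne, hk⟩ := hc
    refine Or.inl ⟨ψ, hψ, fun g hg => ?_, hdeg ψ hψ hne⟩
    have := (H6.mem_charKer (H6.irr_isCharacter hψ)).2 hg
    rwa [hk, Subgroup.mem_bot] at this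
  · push Not at hc
    refine Or.inr ⟨{K | ∃ ψ, IsIrrCharacter G ψ ∧ classInner χ ψ ≠ 0 ∧ K = H6.charKer ψ}, ?_, ?_⟩
    · rintro K ⟨ψ, hψ, hne, rfl⟩
      obtain ⟨k, hk, hk'⟩ := hdeg ψ hψ hne
      exact ⟨inferInstance, hc ψ hψ hne, linDeg_quotient_charKer (H6.irr_isCharacter hψ) hk hk'⟩
    · intro x hx
      apply h2
      rw [H6.classFun_apply_eq_sum_irr (H6.char_isClassFunction h1) x,
        H6.classFun_apply_eq_sum_irr (H6.char_isClassFunction h1) 1]
      refine Finset.sum_congr rfl fun ψ _ => ?_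
      by_cases hne : classInner χ ψ = 0
      · rw [hne, zero_mul, zero_mul]
      · rw [(H6.mem_charKer (H6.irr_isCharacter ψ.2)).1 (hx _ ⟨ψ, ψ.2, hne, rfl⟩)]

theorem blichfeldt_aux (n k : ℕ) : ∀ (G : Type u) [Group G] [Finite G], Nat.card G = k →
    LinDeg n G → ∃ H : Subgroup G, IsPiHall {q | n + 1 < q} H := by
  induction k using Nat.strong_induction_on with
  | _ k ih =>
  intro G _ _ hk hG
  set π : Set ℕ := {q | n + 1 < q} with hπ
  by_contra hno
  -- Hall subgroups of proper subgroups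
  have hsub : ∀ L : Subgroup G, L ≠ ⊤ → ∃ H, IsPiHallOf π H L := by
    intro L hL
    have hlt : Nat.card L < k := by
      rw [← hk, ← L.card_mul_index]
      have h1 : L.index ≠ 1 := fun h => hL (Subgroup.index_eq_one.1 h)
      have h2 : L.index ≠ 0 := Subgroup.FiniteIndex.index_ne_zero
      have h3 : 0 < Nat.card L := Nat.card_pos
      nlinarith [Nat.one_lt_iff_ne_zero_and_ne_one.2 ⟨h2, h1⟩]
    obtain ⟨H, hH⟩ := ih _ hlt L rfl (hG.subgroup L)
    exact ⟨_, H3.isPiHallOf_map_subtype_iff.2 hH⟩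
  have hA : ∀ L : Subgroup G, H3.PiNum πᶜ L.index → L = ⊤ := by
    intro L hL
    by_contra hne
    obtain ⟨H, hH⟩ := hsub L hne
    exact hno ⟨H, H3.isPiHallOf_top_iff.1
      (H3.isPiHallOf_trans hH le_top (by rwa [Subgroup.relIndex_top_right]))⟩
  have hB : ∀ (N : Subgroup G) [N.Normal], N ≠ ⊥ → LinDeg n (G ⧸ N) →
      H3.PiNum π (Nat.card (G ⧸ N)) := by
    intro N _ hN hQ
    have hlt : Nat.card (G ⧸ N) < k := by
      rw [← hk, Subgroup.card_eq_card_quotient_mul_card_subgroup N]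
      have h1 : 1 < Nat.card N := (Subgroup.one_lt_card_iff_ne_bot N).2 hN
      have h3 : 0 < Nat.card (G ⧸ N) := Nat.card_pos
      nlinarith
    obtain ⟨H, hH⟩ := ih _ hlt (G ⧸ N) rfl hQ
    rw [H3.isPiHall_iff] at hH
    have h1 := hA (H.comap (QuotientGroup.mk' N)) (by
      rw [Subgroup.index_comap_of_surjective _ (QuotientGroup.mk'_surjective N)]; exact hH.2)
    have h2 : H = ⊤ := by
      rw [← Subgroup.map_comap_eq_self_of_surjective (QuotientGroup.mk'_surjective N) H, h1,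
        Subgroup.map_top_of_surjective _ (QuotientGroup.mk'_surjective N)]
    rw [h2, Subgroup.card_top] at hH
    exact hH.1
  have hcomm : ∀ H : Subgroup G, H3.PiNum π (Nat.card H) → ∀ a ∈ H, ∀ b ∈ H, a * b = b * a :=
    fun H hH a ha b hb => hG.comm_subgroup (fun p hp hd => by
      have : n + 1 < p := H3.piNum_iff.1 hH p hp hd
      omega) ha hb
  rcases hG.exists_irr_or with ⟨χ, hχ, hf, m, hm, hχ1⟩ | ⟨S, hS, hS'⟩
  swap
  · apply hno
    refine ⟨⊤, H3.isPiHall_iff.2 ⟨?_, by rw [Subgroup.index_top]; exact H3.piNum_one _⟩⟩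
    rw [Subgroup.card_top, H3.piNum_iff]
    intro r hr hd
    by_contra hrπ
    haveI := Fact.mk hr
    obtain ⟨x, hx⟩ := exists_prime_orderOf_dvd_card' r hd
    have : x = 1 := hS' x fun K hK => by
      obtain ⟨_, hK1, hK2⟩ := hS K hK
      apply mem_of_coprime_index
      rw [hx]
      exact H3.PiNum.coprime' ((H3.piNum_prime hr).2 hrπ) (hB K hK1 hK2)
    rw [this, orderOf_one] at hx
    exact hr.one_lt.ne hx
  -- no central element of prime order in `π`
  have hcent : ∀ (p : ℕ) (z : G), p.Prime → p ∈ π → orderOf z = p →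
      Subgroup.centralizer ({z} : Set G) ≠ ⊤ := by
    intro p z hp hpπ hz htop
    have hzc : z ∈ Subgroup.center G := by
      rw [Subgroup.mem_center_iff]
      intro g
      have : g ∈ Subgroup.centralizer ({z} : Set G) := htop ▸ Subgroup.mem_top g
      exact (Subgroup.mem_centralizer_singleton_iff.1 this)
    obtain ⟨m', hm0, hm'⟩ := H6.irr_one_pos hχ
    have hmm : m' = m := by rw [hχ1] at hm'; exact_mod_cast hm'.symm
    have hlt : n + 1 < p := hpπ
    obtain ⟨ψ, hψ, hψ1, hzψ, hle⟩ := exists_twist_central hχ hf hχ1 hp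
      (Nat.not_dvd_of_pos_of_lt (by omega) (by omega)) hzc (hz ▸ pow_orderOf_eq_one z)
    have hne : H6.charKer ψ ≠ ⊥ := by
      intro h
      rw [h, Subgroup.mem_bot] at hzψ
      rw [hzψ, orderOf_one] at hz
      exact hp.one_lt.ne hz
    have h1 := hB _ hne (linDeg_quotient_charKer (H6.irr_isCharacter hψ) hm hψ1)
    haveI : Group.IsSolvable (H6.charKer ψ) := Group.isSolvable_of_comm fun a b =>
      Subtype.ext (Subgroup.mem_center_iff.1 (hle b.2) a)
    exact hno (H3.IsPiSeparable.extension (H6.charKer ψ) (H3.isPiSeparable_of_isSolvable π)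
      (H3.isPiSeparable_of_piNum h1)).exists_isPiHall
  have hsyl : ∀ (p : ℕ) (z : G), p.Prime → p ∈ π → orderOf z = p →
      ¬ p ∣ (Subgroup.centralizer ({z} : Set G)).index := by
    intro p z hp hpπ hz
    haveI := Fact.mk hp
    have h1 : IsPGroup p (Subgroup.zpowers z) :=
      IsPGroup.of_card (n := 1) (by rw [Nat.card_zpowers, hz, pow_one])
    obtain ⟨P, hP⟩ := h1.exists_le_sylow
    have h2 : (P : Subgroup G) ≤ Subgroup.centralizer ({z} : Set G) := by
      intro y hy
      rw [Subgroup.mem_centralizer_singleton_iff]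
      obtain ⟨j, hj⟩ := P.isPGroup'.exists_card_eq
      exact hcomm P (hj ▸ H3.piNum_prime_pow hp hpπ j) y hy z (hP (Subgroup.mem_zpowers z))
    exact fun hd => P.not_dvd_index (hd.trans (Subgroup.index_dvd_of_le h2))
  -- a Hall subgroup of a centralizer keeps the primes not dividing the index
  have hstep : ∀ (q : ℕ) (y : G), q.Prime → q ∈ π → orderOf y = q → ∃ H : Subgroup G,
      H3.PiNum π (Nat.card H) ∧ (∀ r : ℕ, r.Prime → r ∈ π →
        r ∣ Nat.card (Subgroup.centralizer ({y} : Set G)) → r ∣ Nat.card H) ∧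
      ∀ r : ℕ, r.Prime → r ∈ π → ¬ r ∣ (Subgroup.centralizer ({y} : Set G)).index →
        ¬ r ∣ H.index := by
    intro q y hq hqπ hy
    obtain ⟨H, hH⟩ := hsub _ (hcent q y hq hqπ hy)
    rw [H3.isPiHallOf_iff] at hH
    obtain ⟨h1, h2, h3⟩ := hH
    rw [H3.piNum_compl_iff] at h3
    refine ⟨H, h2, fun r hr hrπ hd => ?_, fun r hr hrπ hd hd' => ?_⟩
    · rw [← Subgroup.card_mul_index (H.subgroupOf (Subgroup.centralizer ({y} : Set G))),
        Nat.card_congr (Subgroup.subgroupOfEquivOfLe h1).toEquiv] at hd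
      exact ((Nat.Prime.dvd_mul hr).1 hd).resolve_right (h3 r hr hrπ)
    · rw [← Subgroup.relIndex_mul_index h1] at hd'
      rcases (Nat.Prime.dvd_mul hr).1 hd' with h | h
      · exact h3 r hr hrπ h
      · exact hd h
  by_cases hex : ∃ p : ℕ, p.Prime ∧ p ∈ π ∧ p ∣ Nat.card G
  swap
  · push Not at hex
    apply hno
    refine ⟨⊥, H3.isPiHall_iff.2 ⟨by rw [Subgroup.card_bot]; exact H3.piNum_one _, ?_⟩⟩
    rw [Subgroup.index_bot, H3.piNum_compl_iff]
    exact hex
  obtain ⟨p, hp, hpπ, hpG⟩ := hex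
  haveI := Fact.mk hp
  obtain ⟨P⟩ := (inferInstance : Nonempty (Sylow p G))
  have hPπ : H3.PiNum π (Nat.card P) := by
    obtain ⟨j, hj⟩ := P.isPGroup'.exists_card_eq
    exact hj ▸ H3.piNum_prime_pow hp hpπ j
  have hCtop : Subgroup.centralizer (P : Set G) = ⊤ := by
    apply hA
    rw [H3.piNum_compl_iff]
    intro q hq hqπ hqd
    by_cases hpq : q = p
    · subst hpq
      have : (P : Subgroup G) ≤ Subgroup.centralizer (P : Set G) := fun y hy => by
        rw [Subgroup.mem_centralizer_iff]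
        exact fun x hx => hcomm P hPπ x hx y hy
      exact P.not_dvd_index (hqd.trans (Subgroup.index_dvd_of_le this))
    have hqG : q ∣ Nat.card G := hqd.trans (Subgroup.index_dvd_card _)
    have hlp : n + 1 < p := hpπ
    have hlq : n + 1 < q := hqπ
    obtain ⟨a, ha, ha', hane⟩ := exists_pow_ne_of_lt (H6.irr_isCharacter hχ) hf hχ1 hp hpG
      (by omega)
    obtain ⟨b, hb, hb', hbne⟩ := exists_pow_ne_of_lt (H6.irr_isCharacter hχ) hf hχ1 hq hqG
      (by omega)
    obtain ⟨g, hgp, hgq⟩ := exists_dvd_orderOf_of_pow_ne hχ ha hb ha' hb' hane hbne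
    have hx : orderOf (g ^ (orderOf g / p)) = p := orderOf_pow_orderOf_div (orderOf_pos g).ne' hgp
    obtain ⟨H₁, hH₁, hH₁', hH₁''⟩ := hstep p _ hp hpπ hx
    have hq1 : q ∣ Nat.card H₁ := hH₁' q hq hqπ (hgq.trans (Subgroup.orderOf_dvd_natCard _ (by
      rw [Subgroup.mem_centralizer_singleton_iff]
      exact (Commute.refl g).pow_right _)))
    have hp1 : ¬ p ∣ H₁.index := hH₁'' p hp hpπ (hsyl p _ hp hpπ hx)
    haveI := Fact.mk hq
    obtain ⟨y, hy⟩ := exists_prime_orderOf_dvd_card' (G := H₁) q hq1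
    have hy' : orderOf (y : G) = q := by rw [Subgroup.orderOf_coe, hy]
    obtain ⟨H₂, hH₂, -, hH₂''⟩ := hstep q _ hq hqπ hy'
    have hq2 : ¬ q ∣ H₂.index := hH₂'' q hq hqπ (hsyl q _ hq hqπ hy')
    have hp2 : ¬ p ∣ H₂.index := hH₂'' p hp hpπ (fun hd => hp1 (hd.trans
      (Subgroup.index_dvd_of_le fun w hw => by
        rw [Subgroup.mem_centralizer_singleton_iff]
        exact hcomm H₁ hH₁ w hw y y.2)))
    obtain ⟨P₂, hP₂⟩ := exists_sylow_le_of_not_dvd_index hp2
    obtain ⟨t, ht⟩ := MulAction.exists_smul_eq G P₂ P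
    have hle : H₂.map (MulAut.conj t).toMonoidHom ≤ Subgroup.centralizer (P : Set G) := by
      rintro _ ⟨w, hw, rfl⟩
      rw [Subgroup.mem_centralizer_iff]
      intro v hv
      rw [← ht] at hv
      obtain ⟨v', hv', rfl⟩ : ∃ v' ∈ P₂, MulAut.conj t v' = v := hv
      have := hcomm H₂ hH₂ v' (hP₂ hv') w hw
      change MulAut.conj t v' * MulAut.conj t w = MulAut.conj t w * MulAut.conj t v'
      rw [← map_mul, ← map_mul, this]
    apply hq2
    have := hqd.trans (Subgroup.index_dvd_of_le hle)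
    rwa [Subgroup.index_map_of_bijective (MulAut.conj t).bijective] at this
  have hpP : p ∣ Nat.card P := by
    rw [← (P : Subgroup G).card_mul_index] at hpG
    exact ((Nat.Prime.dvd_mul hp).1 hpG).resolve_right P.not_dvd_index
  obtain ⟨z, hz⟩ := exists_prime_orderOf_dvd_card' (G := P) p hpP
  apply hcent p z hp hpπ (by rw [Subgroup.orderOf_coe, hz])
  rw [eq_top_iff, ← hCtop]
  exact Subgroup.centralizer_le (by simp)

theorem LinDeg.exists_abelian_hall [Finite G] {n : ℕ} (h : LinDeg n G) :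
    ∃ A : Subgroup G, (∀ x ∈ A, ∀ y ∈ A, x * y = y * x) ∧ IsPiHall {q | n + 1 < q} A := by
  obtain ⟨A, hA⟩ := blichfeldt_aux n _ G rfl h
  refine ⟨A, fun x hx y hy => h.comm_subgroup (fun p hp hd => ?_) hx hy, hA⟩
  have : n + 1 < p := hA.1 p hp hd
  omega

end H31
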