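import Mathlib
import Cfsg.Agent.Lib.Deg.FS

/-! Unitary matrix representations and Frobenius' commutator estimate. -/

set_option autoImplicit false
set_option linter.style.haveILetI false

namespace H31

open Cfsg Matrix
open scoped ComplexConjugate ComplexOrder MatrixOrder Matrix.Norms.L2Operator

variable {G : Type*} [Group G] {ι : Type*} [Fintype ι] [DecidableEq ι]

/-- Every matrix representation of a finite group is similar to a unitary one. -/
theorem exists_unitary_conj [Finite G] (Φ : G →* Matrix ι ι ℂ) :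
    ∃ Y : (Matrix ι ι ℂ)ˣ, ∀ g, (Y : Matrix ι ι ℂ) * Φ g * (Y⁻¹ : (Matrix ι ι ℂ)ˣ) ∈
      unitary (Matrix ι ι ℂ) := by
  haveI := Fintype.ofFinite G
  have hpos := H87.posDef_avg Φ
  have hinv := H87.avg_herm_inv Φ
  obtain ⟨y, hy, hP⟩ := CStarAlgebra.isStrictlyPositive_iff_eq_star_mul_self.mp
    hpos.isStrictlyPositive
  obtain ⟨Y, rfl⟩ := hy
  refine ⟨Y, fun g => ?_⟩
  have h1 : star ((Y : Matrix ι ι ℂ) * Φ g * (Y⁻¹ : (Matrix ι ι ℂ)ˣ)) *
      ((Y : Matrix ι ι ℂ) * Φ g * (Y⁻¹ : (Matrix ι ι ℂ)ˣ)) = 1 := by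
    have h2 := hinv g
    rw [hP] at h2
    have h3 : star ((Y⁻¹ : (Matrix ι ι ℂ)ˣ) : Matrix ι ι ℂ) * star (Y : Matrix ι ι ℂ) = 1 := by
      rw [← star_mul, Units.mul_inv, star_one]
    calc _ = star ((Y⁻¹ : (Matrix ι ι ℂ)ˣ) : Matrix ι ι ℂ) *
          ((Φ g)ᴴ * (star (Y : Matrix ι ι ℂ) * Y) * Φ g) * (Y⁻¹ : (Matrix ι ι ℂ)ˣ) := by
          simp only [star_mul, star_eq_conjTranspose, Matrix.mul_assoc]
      _ = 1 := by
          rw [h2, ← Matrix.mul_assoc, h3, Matrix.one_mul, Units.mul_inv]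
  exact ⟨h1, mul_eq_one_comm.1 h1⟩

theorem exists_unitary [Finite G] (Φ : G →* Matrix ι ι ℂ) :
    ∃ Ψ : G →* Matrix ι ι ℂ, (∀ g, Ψ g ∈ unitary (Matrix ι ι ℂ)) ∧
      ∀ g, (Ψ g).trace = (Φ g).trace := by
  obtain ⟨Y, hY⟩ := exists_unitary_conj Φ
  refine ⟨{ toFun := fun g => (Y : Matrix ι ι ℂ) * Φ g * (Y⁻¹ : (Matrix ι ι ℂ)ˣ)
            map_one' := by simp
            map_mul' := fun a b => by
              simp only [map_mul, Matrix.mul_assoc, Units.inv_mul_cancel_left] }, hY, fun g => ?_⟩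
  change ((Y : Matrix ι ι ℂ) * Φ g * (Y⁻¹ : (Matrix ι ι ℂ)ˣ)).trace = _
  rw [Matrix.trace_mul_cycle, Units.inv_mul, Matrix.one_mul]

theorem exists_unitary_of_char [Finite G] {χ : G → ℂ} (h : IsCharacter G χ) {n : ℕ}
    (hn : χ 1 = n) : ∃ Ψ : G →* Matrix (Fin n) (Fin n) ℂ,
      (∀ g, Ψ g ∈ unitary (Matrix (Fin n) (Fin n) ℂ)) ∧ ∀ g, χ g = (Ψ g).trace := by
  obtain ⟨m, Φ, rfl⟩ := H7.isCharacter_iff_matrix.1 h
  have hm : m = n := by
    simp only [map_one, trace_one, Fintype.card_fin, Nat.cast_inj] at hn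
    exact hn
  subst hm
  obtain ⟨Ψ, h1, h2⟩ := exists_unitary Φ
  exact ⟨Ψ, h1, fun g => (h2 g).symm⟩

theorem star_unitary_hom {Ψ : G →* Matrix ι ι ℂ} (hΨ : ∀ g, Ψ g ∈ unitary (Matrix ι ι ℂ))
    (g : G) : star (Ψ g) = Ψ g⁻¹ := by
  have h1 := (hΨ g).1
  calc star (Ψ g) = star (Ψ g) * (Ψ g * Ψ g⁻¹) := by rw [← map_mul, mul_inv_cancel, map_one, mul_one]
    _ = Ψ g⁻¹ := by rw [← mul_assoc, h1, one_mul]

/-- If `B` is unitary and close to `1`, and `tr (Xᴴ B X) = 0`, then `X = 0`. -/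
theorem eq_zero_of_trace_conj {B X : Matrix ι ι ℂ} (hB : B ∈ unitary (Matrix ι ι ℂ))
    (h1 : ‖B - 1‖ ≤ 1) (h : (star X * B * X).trace = 0) : X = 0 := by
  have hsa : IsSelfAdjoint (star (B - 1) * (B - 1)) := IsSelfAdjoint.star_mul_self _
  have hle := CStarAlgebra.star_left_conjugate_le_norm_smul (a := X) hsa
  have hn : ‖star (B - 1) * (B - 1)‖ ≤ 1 := by
    rw [CStarRing.norm_star_mul_self]
    nlinarith [norm_nonneg (B - 1)]
  have h' : (star X * star B * X).trace = 0 := by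
    have : star X * star B * X = (star X * B * X)ᴴ := by
      simp only [star_eq_conjTranspose, conjTranspose_mul, conjTranspose_conjTranspose,
        Matrix.mul_assoc]
    rw [this, trace_conjTranspose, h, star_zero]
  have e : star X * (star (B - 1) * (B - 1)) * X =
      (2 : ℂ) • (star X * X) - star X * B * X - star X * star B * X := by
    have := hB.1
    have e1 : star (B - 1) * (B - 1) = (2 : ℂ) • (1 : Matrix ι ι ℂ) - B - star B := by
      rw [star_sub, star_one, sub_mul, mul_sub, this, two_smul]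
      simp only [mul_one, one_mul]
      abel
    rw [e1]
    simp only [mul_sub, sub_mul, mul_smul_comm, smul_mul_assoc, mul_one]
  have ht := (Matrix.le_iff.1 hle).trace_nonneg
  rw [e] at ht
  simp only [trace_sub, trace_smul, h, h', sub_zero] at ht
  have hp : 0 ≤ (star X * X).trace := (Matrix.posSemidef_conjTranspose_mul_self X).trace_nonneg
  have h0 : (star X * X).trace = 0 := by
    obtain ⟨hp1, hp2⟩ := Complex.nonneg_iff.1 hp
    obtain ⟨ht1, -⟩ := Complex.nonneg_iff.1 ht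
    simp only [smul_eq_mul, Complex.real_smul, Complex.sub_re, Complex.mul_re, Complex.ofReal_re,
      Complex.ofReal_im, zero_mul, sub_zero, Complex.re_ofNat, Complex.im_ofNat] at ht1
    apply Complex.ext
    · simp only [Complex.zero_re]
      nlinarith
    · simp [← hp2]
  exact Matrix.trace_conjTranspose_mul_self_eq_zero_iff.1 h0

/-- If `a` commutes with `b a b⁻¹` and `b` is close to `1`, then `a` and `b` commute. -/
theorem hom_comm_of_comm_conj {Ψ : G →* Matrix ι ι ℂ} (hΨ : ∀ g, Ψ g ∈ unitary (Matrix ι ι ℂ))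
    {a b : G} (hb : ‖Ψ b - 1‖ ≤ 1) (hc : a * (b * a * b⁻¹) = (b * a * b⁻¹) * a) :
    Ψ a = Ψ (b * a * b⁻¹) := by
  set a' := b * a * b⁻¹ with ha'
  have key : Ψ a⁻¹ - Ψ a'⁻¹ = 0 := by
    refine eq_zero_of_trace_conj (hΨ b) hb ?_
    rw [star_sub, star_unitary_hom hΨ, star_unitary_hom hΨ, inv_inv, inv_inv]
    simp only [sub_mul, mul_sub, ← map_mul, trace_sub]
    have hcl : ∀ x y : G, (Ψ (x * y)).trace = (Ψ (y * x)).trace := fun x y => by
      rw [map_mul, map_mul, Matrix.trace_mul_comm]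
    have e1 : (Ψ (a * b * a⁻¹)).trace = (Ψ b).trace := by
      rw [hcl, inv_mul_cancel_left]
    have e2 : (Ψ (a' * b * a'⁻¹)).trace = (Ψ b).trace := by
      rw [hcl, inv_mul_cancel_left]
    have e3 : (Ψ (a' * b * a⁻¹)).trace = (Ψ b).trace := by
      congr 2; rw [ha']; group
    have e4 : (Ψ (a * b * a'⁻¹)).trace = (Ψ b).trace := by
      have : a'⁻¹ * a = a * a'⁻¹ := by
        rw [inv_mul_eq_iff_eq_mul, ← mul_assoc, ← hc]; group
      rw [hcl, ← mul_assoc, this, ← e1]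
      congr 2; rw [ha']; group
    rw [e1, e2, e3, e4]; ring
  have := congrArg star (sub_eq_zero.1 key)
  rwa [star_unitary_hom hΨ, star_unitary_hom hΨ, inv_inv, inv_inv] at this

/-- The commutator estimate. -/
theorem norm_comm_le {Ψ : G →* Matrix ι ι ℂ} (hΨ : ∀ g, Ψ g ∈ unitary (Matrix ι ι ℂ))
    (a b : G) (c : ℂ) : ‖Ψ (a * b * a⁻¹ * b⁻¹) - 1‖ ≤
      2 * ‖Ψ a - c • (1 : Matrix ι ι ℂ)‖ * ‖Ψ b - 1‖ := by
  have e1 : Ψ (a * b * a⁻¹ * b⁻¹) - 1 = (Ψ a * Ψ b - Ψ b * Ψ a) * Ψ (a⁻¹ * b⁻¹) := by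
    rw [sub_mul]
    simp only [← map_mul]
    rw [← map_one Ψ]
    congr 2 <;> group
  have e2 : Ψ a * Ψ b - Ψ b * Ψ a = (Ψ a - c • (1 : Matrix ι ι ℂ)) * (Ψ b - 1) -
      (Ψ b - 1) * (Ψ a - c • (1 : Matrix ι ι ℂ)) := by
    simp only [sub_mul, mul_sub, mul_one, one_mul, smul_mul_assoc, mul_smul_comm, smul_sub]
    abel
  rw [e1, CStarRing.norm_mul_mem_unitary _ (hΨ _), e2]
  calc _ ≤ ‖(Ψ a - c • (1 : Matrix ι ι ℂ)) * (Ψ b - 1)‖ +
        ‖(Ψ b - 1) * (Ψ a - c • (1 : Matrix ι ι ℂ))‖ := norm_sub_le _ _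
    _ ≤ ‖Ψ a - c • (1 : Matrix ι ι ℂ)‖ * ‖Ψ b - 1‖ +
        ‖Ψ b - 1‖ * ‖Ψ a - c • (1 : Matrix ι ι ℂ)‖ := add_le_add (norm_mul_le _ _) (norm_mul_le _ _)
    _ = _ := by ring

/-- Frobenius: an element within `1/2` of a scalar commutes with any element within `1` of `1`. -/
theorem comm_of_norm_lt [Finite G] {Ψ : G →* Matrix ι ι ℂ}
    (hΨ : ∀ g, Ψ g ∈ unitary (Matrix ι ι ℂ)) (hinj : Function.Injective Ψ) {a : G} {c : ℂ}
    (ha : ‖Ψ a - c • (1 : Matrix ι ι ℂ)‖ < 1 / 2) {b : G} (hb : ‖Ψ b - 1‖ ≤ 1) :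
    a * b = b * a := by
  by_contra hne
  obtain ⟨b₀, ⟨hb₀, hne₀⟩, hmin⟩ := Set.exists_min_image
    {x : G | ‖Ψ x - 1‖ ≤ 1 ∧ a * x ≠ x * a} (fun x => ‖Ψ x - 1‖) (Set.toFinite _) ⟨b, hb, hne⟩
  have hpos : 0 < ‖Ψ b₀ - 1‖ := by
    rw [norm_pos_iff, sub_ne_zero]
    intro h
    rw [← map_one Ψ] at h
    apply hne₀
    rw [hinj h, mul_one, one_mul]
  have hlt : ‖Ψ (a * b₀ * a⁻¹ * b₀⁻¹) - 1‖ < ‖Ψ b₀ - 1‖ := by
    have := norm_comm_le hΨ a b₀ c
    nlinarith
  have hc : a * (a * b₀ * a⁻¹ * b₀⁻¹) = (a * b₀ * a⁻¹ * b₀⁻¹) * a := by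
    by_contra h
    exact absurd (hmin _ ⟨by linarith, h⟩) (not_le.2 hlt)
  have hc' : a * (b₀ * a * b₀⁻¹) = (b₀ * a * b₀⁻¹) * a := by
    have h1 : Commute a (a * b₀ * a⁻¹ * b₀⁻¹) := hc
    have h2 : Commute a (a⁻¹ * (a * b₀ * a⁻¹ * b₀⁻¹)) := (Commute.refl a).inv_right.mul_right h1
    have h3 := h2.inv_right
    have e : (a⁻¹ * (a * b₀ * a⁻¹ * b₀⁻¹))⁻¹ = b₀ * a * b₀⁻¹ := by group
    rw [e] at h3
    exact h3
  have := hinj (hom_comm_of_comm_conj hΨ hb₀ hc')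
  apply hne₀
  calc a * b₀ = (b₀ * a * b₀⁻¹) * b₀ := by rw [← this]
    _ = b₀ * a := by group

theorem norm_conj_sub {Ψ : G →* Matrix ι ι ℂ} (hΨ : ∀ g, Ψ g ∈ unitary (Matrix ι ι ℂ))
    (a g : G) (c : ℂ) : ‖Ψ (g * a * g⁻¹) - c • (1 : Matrix ι ι ℂ)‖ =
      ‖Ψ a - c • (1 : Matrix ι ι ℂ)‖ := by
  have : Ψ (g * a * g⁻¹) - c • (1 : Matrix ι ι ℂ) =
      Ψ g * (Ψ a - c • (1 : Matrix ι ι ℂ)) * Ψ g⁻¹ := by
    simp only [mul_sub, sub_mul, mul_smul_comm, smul_mul_assoc, mul_one, ← map_mul,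
      mul_inv_cancel, map_one]
  rw [this, CStarRing.norm_mul_mem_unitary _ (hΨ _), CStarRing.norm_mem_unitary_mul _ (hΨ _)]

/-- The norm of `U - c` is attained at an eigenvalue of the unitary matrix `U`. -/
theorem exists_eigen_norm [Nonempty ι] {U : Matrix ι ι ℂ} (hU : U ∈ unitary (Matrix ι ι ℂ))
    (c : ℂ) : ∃ (μ : ℂ) (v : ι → ℂ), v ≠ 0 ∧ U *ᵥ v = μ • v ∧
      ‖U - c • (1 : Matrix ι ι ℂ)‖ = ‖μ - c‖ := by
  have hn : IsStarNormal (U - c • (1 : Matrix ι ι ℂ)) := by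
    constructor
    have h1 := hU.1
    have h2 := hU.2
    change _ * _ = _ * _
    simp only [star_sub, star_smul, star_one, sub_mul, mul_sub, h1, h2, mul_smul_comm,
      smul_mul_assoc, mul_one, one_mul, smul_sub, smul_smul, mul_comm c]
    abel
  obtain ⟨k, hk, hk'⟩ := spectrum.exists_nnnorm_eq_spectralRadius (U - c • (1 : Matrix ι ι ℂ))
  rw [IsStarNormal.spectralRadius_eq_nnnorm, ENNReal.coe_inj] at hk'
  rw [← Matrix.spectrum_toLin', ← Module.End.hasEigenvalue_iff_mem_spectrum] at hk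
  obtain ⟨v, hv⟩ := hk.exists_hasEigenvector
  refine ⟨k + c, v, hv.2, ?_, ?_⟩
  · have := hv.apply_eq_smul
    rw [Matrix.toLin'_apply, Matrix.sub_mulVec, Matrix.smul_mulVec, Matrix.one_mulVec] at this
    rw [add_smul, ← this]; abel
  · rw [add_sub_cancel_right]
    exact (congrArg NNReal.toReal hk').symm

/-- A character of an abelian group is a sum of homomorphisms. -/
theorem exists_sum_hom_of_comm [Finite G] (hG : ∀ a b : G, a * b = b * a) {χ : G → ℂ}
    (h : IsCharacter G χ) : ∃ (n : ℕ) (lam : Fin n → (G →* ℂˣ)),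
      ∀ g, χ g = ∑ i, (lam i g : ℂ) := by
  refine H6.char_induction (P := fun χ => ∃ (n : ℕ) (lam : Fin n → (G →* ℂˣ)),
      ∀ g, χ g = ∑ i, (lam i g : ℂ)) ⟨0, Fin.elim0, fun g => by simp⟩ ?_ ?_ h
  · intro ψ hψ
    obtain ⟨lam, rfl⟩ := H6.irr_eq_hom_of_comm hG hψ
    exact ⟨1, fun _ => lam, fun g => by simp⟩
  · rintro φ ψ ⟨m, l1, h1⟩ ⟨n, l2, h2⟩
    refine ⟨m + n, Fin.append l1 l2, fun g => ?_⟩
    rw [Fin.sum_univ_add]
    simp [h1, h2]

/-- The diagonal representation attached to a family of linear characters. -/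
noncomputable def diagHom {κ : Type*} [Fintype κ] [DecidableEq κ] (lam : κ → (G →* ℂˣ)) :
    G →* Matrix κ κ ℂ where
  toFun g := Matrix.diagonal fun i => (lam i g : ℂ)
  map_one' := by simp
  map_mul' a b := by simp [Matrix.diagonal_mul_diagonal]

/-- Eigenvalues of a matrix representation whose character is a sum of linear characters. -/
theorem eigen_eq_of_trace_eq_sum [Finite G] {κ : Type*} [Fintype κ] (Ψ : G →* Matrix ι ι ℂ)
    (lam : κ → (G →* ℂˣ)) (h : ∀ g, (Ψ g).trace = ∑ i, (lam i g : ℂ)) {g : G} {μ : ℂ}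
    {v : ι → ℂ} (hv : v ≠ 0) (hμ : Ψ g *ᵥ v = μ • v) : ∃ i, μ = lam i g := by
  classical
  obtain ⟨e⟩ := H6.equiv_of_character_eq (H7.repOfMatrix Ψ) (H7.repOfMatrix (diagHom lam)) (by
    funext x
    rw [H7.character_repOfMatrix, H7.character_repOfMatrix, h]
    simp [diagHom])
  have h1 : e (H7.repOfMatrix Ψ g v) = H7.repOfMatrix (diagHom lam) g (e v) :=
    e.toIntertwiningMap.isIntertwining _ _ g v
  rw [H7.repOfMatrix_apply, H7.repOfMatrix_apply, Matrix.toLin'_apply, Matrix.toLin'_apply, hμ,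
    map_smul] at h1
  have h2 : e v ≠ 0 := fun h0 => hv (e.toLinearEquiv.map_eq_zero_iff.1 h0)
  obtain ⟨i, hi⟩ := Function.ne_iff.1 h2
  refine ⟨i, ?_⟩
  have h3 := congrFun h1 i
  simp only [diagHom, MonoidHom.coe_mk, OneHom.coe_mk, Matrix.mulVec_diagonal, Pi.smul_apply,
    smul_eq_mul] at h3
  exact mul_right_cancel₀ hi h3

theorem norm_sub_lt_of_arg {z w : ℂ} (hz : ‖z‖ = 1) (hw : ‖w‖ = 1)
    (h : ⌈(Complex.arg z + Real.pi) / (Real.pi / 6)⌉ =
      ⌈(Complex.arg w + Real.pi) / (Real.pi / 6)⌉) :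
    ‖z⁻¹ * w - ((Real.sqrt 3 / 2 : ℝ) : ℂ)‖ < 1 / 2 := by
  have hpi := Real.pi_pos
  have h1 : |(Complex.arg z + Real.pi) / (Real.pi / 6) -
      (Complex.arg w + Real.pi) / (Real.pi / 6)| < 1 := by
    have a1 := Int.le_ceil ((Complex.arg z + Real.pi) / (Real.pi / 6))
    have a2 := Int.ceil_lt_add_one ((Complex.arg z + Real.pi) / (Real.pi / 6))
    have a3 := Int.le_ceil ((Complex.arg w + Real.pi) / (Real.pi / 6))
    have a4 := Int.ceil_lt_add_one ((Complex.arg w + Real.pi) / (Real.pi / 6))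
    rw [h] at a1 a2
    rw [abs_lt]; constructor <;> linarith
  have h2 : |Complex.arg w - Complex.arg z| < Real.pi / 6 := by
    rw [← sub_div, abs_div, abs_of_pos (by positivity : 0 < Real.pi / 6),
      div_lt_one (by positivity), abs_sub_comm] at h1
    simpa using h1
  have hz' : z = Complex.exp (Complex.arg z * Complex.I) := by
    conv_lhs => rw [← Complex.norm_mul_exp_arg_mul_I z, hz]
    simp
  have hw' : w = Complex.exp (Complex.arg w * Complex.I) := by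
    conv_lhs => rw [← Complex.norm_mul_exp_arg_mul_I w, hw]
    simp
  set t := Complex.arg w - Complex.arg z with ht
  have h3 : z⁻¹ * w = Complex.exp (t * Complex.I) := by
    rw [hz', hw', ← Complex.exp_neg, ← Complex.exp_add, ht]
    congr 1; push_cast; ring
  have h4 : Real.sqrt 3 / 2 < Real.cos t := by
    rw [← Real.cos_pi_div_six, ← Real.cos_abs t]
    exact Real.cos_lt_cos_of_nonneg_of_le_pi (abs_nonneg _) (by linarith) h2
  have h5 : Real.sqrt 3 * Real.sqrt 3 = 3 := Real.mul_self_sqrt (by norm_num)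
  have h6 : 0 < Real.sqrt 3 := by positivity
  rw [h3]
  have h7 : ‖Complex.exp (t * Complex.I) - ((Real.sqrt 3 / 2 : ℝ) : ℂ)‖ ^ 2 < (1 / 2) ^ 2 := by
    rw [Complex.sq_norm, Complex.normSq_apply]
    simp only [Complex.sub_re, Complex.exp_ofReal_mul_I_re, Complex.ofReal_re, Complex.sub_im,
      Complex.exp_ofReal_mul_I_im, Complex.ofReal_im, sub_zero]
    nlinarith [Real.sin_sq_add_cos_sq t]
  exact lt_of_pow_lt_pow_left₀ 2 (by norm_num) h7

theorem ceil_arg_mem (z : ℂ) :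
    ⌈(Complex.arg z + Real.pi) / (Real.pi / 6)⌉ ∈ Finset.Icc (1 : ℤ) 12 := by
  have hpi := Real.pi_pos
  have h1 := Complex.neg_pi_lt_arg z
  have h2 := Complex.arg_le_pi z
  rw [Finset.mem_Icc]
  constructor
  · have : (0 : ℝ) < (Complex.arg z + Real.pi) / (Real.pi / 6) := by
      apply div_pos <;> linarith
    exact Int.one_le_ceil_iff.2 this
  · rw [Int.ceil_le, div_le_iff₀ (by positivity)]
    push_cast; linarith

/-- Frobenius' form of Jordan's theorem. -/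
theorem exists_abelian_normal_twelve [Finite G] {χ : G → ℂ} (hχ : IsCharacter G χ)
    (hfaith : ∀ g : G, χ g = χ 1 → g = 1) {n : ℕ} (hn : χ 1 = n) :
    ∃ A : Subgroup G, A.Normal ∧ (∀ x ∈ A, ∀ y ∈ A, x * y = y * x) ∧
      ∀ H : Subgroup G, (∀ x ∈ H, ∀ y ∈ H, x * y = y * x) → (A.subgroupOf H).index ≤ 12 ^ n := by
  obtain ⟨Ψ, hΨ, hχΨ⟩ := exists_unitary_of_char hχ hn
  have hinj : Function.Injective Ψ := by
    rw [injective_iff_map_eq_one]
    intro g hg
    apply hfaith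
    rw [hχΨ, hχΨ, hg, map_one]
  set c : ℂ := ((Real.sqrt 3 / 2 : ℝ) : ℂ) with hc
  let S : Set G := {g | ‖Ψ g - c • (1 : Matrix (Fin n) (Fin n) ℂ)‖ < 1 / 2}
  have hST : ∀ g ∈ S, ‖Ψ g - 1‖ ≤ 1 := by
    intro g hg
    have e : Ψ g - 1 = (Ψ g - c • (1 : Matrix (Fin n) (Fin n) ℂ)) +
        (c - 1) • (1 : Matrix (Fin n) (Fin n) ℂ) := by
      rw [sub_smul, one_smul]; abel
    have h1 : ‖(c - 1) • (1 : Matrix (Fin n) (Fin n) ℂ)‖ ≤ 1 / 2 := by
      rw [norm_smul]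
      have h2 : ‖(1 : Matrix (Fin n) (Fin n) ℂ)‖ ≤ 1 := by
        rcases subsingleton_or_nontrivial (Matrix (Fin n) (Fin n) ℂ) with h | h
        · rw [Subsingleton.elim (1 : Matrix (Fin n) (Fin n) ℂ) 0]; simp
        · simp
      have h3 : ‖c - 1‖ ≤ 1 / 2 := by
        have : c - 1 = ((Real.sqrt 3 / 2 - 1 : ℝ) : ℂ) := by rw [hc]; push_cast; ring
        rw [this, Complex.norm_real, Real.norm_eq_abs, abs_le]
        have h5 : Real.sqrt 3 * Real.sqrt 3 = 3 := Real.mul_self_sqrt (by norm_num)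
        have h6 : 0 < Real.sqrt 3 := by positivity
        constructor <;> nlinarith
      nlinarith [norm_nonneg (c - 1), norm_nonneg (1 : Matrix (Fin n) (Fin n) ℂ)]
    have hg' : ‖Ψ g - c • (1 : Matrix (Fin n) (Fin n) ℂ)‖ < 1 / 2 := hg
    rw [e]
    linarith [norm_add_le (Ψ g - c • (1 : Matrix (Fin n) (Fin n) ℂ))
      ((c - 1) • (1 : Matrix (Fin n) (Fin n) ℂ))]
  refine ⟨Subgroup.closure S, ?_, ?_, ?_⟩
  · refine ⟨fun x hx g => ?_⟩
    induction hx using Subgroup.closure_induction with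
    | mem x hx =>
      apply Subgroup.subset_closure
      change ‖Ψ _ - c • (1 : Matrix (Fin n) (Fin n) ℂ)‖ < 1 / 2
      rw [norm_conj_sub hΨ]; exact hx
    | one => simp
    | mul x y _ _ hx hy =>
      have : g * (x * y) * g⁻¹ = (g * x * g⁻¹) * (g * y * g⁻¹) := by group
      rw [this]; exact mul_mem hx hy
    | inv x _ hx =>
      have : g * x⁻¹ * g⁻¹ = (g * x * g⁻¹)⁻¹ := by group
      rw [this]; exact inv_mem hx
  · have hcomm : ∀ x ∈ S, ∀ y ∈ S, x * y = y * x := fun x hx y hy =>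
      comm_of_norm_lt hΨ hinj hx (hST y hy)
    intro x hx y hy
    have := Subgroup.closure_le_centralizer_centralizer S
    have h1 : S ⊆ Subgroup.centralizer S := fun y hy => by
      rw [SetLike.mem_coe, Subgroup.mem_centralizer_iff]
      exact fun x hx => hcomm x hx y hy
    have h2 : Subgroup.closure S ≤ Subgroup.centralizer S := (Subgroup.closure_le _).2 h1
    exact (Subgroup.mem_centralizer_iff.1 (this hy) x (h2 hx))
  · intro H hH
    have hH' : ∀ a b : H, a * b = b * a := fun a b => Subtype.ext (hH _ a.2 _ b.2)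
    obtain ⟨m, lam, hlam⟩ := exists_sum_hom_of_comm hH' (H6.isCharacter_restrict H hχ)
    have hm : m = n := by
      have := hlam 1
      simp only [OneMemClass.coe_one, hn, map_one, Units.val_one, Finset.sum_const,
        Finset.card_univ, Fintype.card_fin, nsmul_eq_mul, mul_one, Nat.cast_inj] at this
      exact this.symm
    subst hm
    have hnorm : ∀ i (h : H), ‖(lam i h : ℂ)‖ = 1 := fun i h => by
      have : (lam i h : ℂ) ^ (orderOf h) = 1 := by
        rw [← Units.val_pow_eq_pow_val, ← map_pow, pow_orderOf_eq_one, map_one, Units.val_one]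
      exact Complex.norm_eq_one_of_pow_eq_one this (orderOf_pos h).ne'
    let f : H → (Fin m → Finset.Icc (1 : ℤ) 12) := fun h i =>
      ⟨⌈(Complex.arg (lam i h) + Real.pi) / (Real.pi / 6)⌉, ceil_arg_mem _⟩
    have hf : ∀ a b : H, f a = f b → ((a⁻¹ * b : H) : G) ∈ S := by
      intro a b hab
      change ‖Ψ _ - c • (1 : Matrix (Fin m) (Fin m) ℂ)‖ < 1 / 2
      rcases isEmpty_or_nonempty (Fin m) with h0 | h0
      · rw [Subsingleton.elim (_ - _ : Matrix (Fin m) (Fin m) ℂ) 0]; simp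
      obtain ⟨μ, v, hv, hμ, hnn⟩ := exists_eigen_norm (hΨ ((a⁻¹ * b : H) : G)) c
      obtain ⟨i, hi⟩ := eigen_eq_of_trace_eq_sum (Ψ.comp H.subtype) lam
        (fun g => by rw [← hlam]; exact (hχΨ g).symm) (g := a⁻¹ * b) hv hμ
      rw [hnn, hi, map_mul, map_inv, Units.val_mul, Units.val_inv_eq_inv_val]
      exact norm_sub_lt_of_arg (hnorm i a) (hnorm i b) (congrArg Subtype.val (congrFun hab i))
    have hinj' : Function.Injective
        (fun q : H ⧸ (Subgroup.closure S).subgroupOf H => f q.out) := by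
      intro q r hqr
      rw [← q.out_eq', ← r.out_eq', QuotientGroup.eq, Subgroup.mem_subgroupOf]
      exact Subgroup.subset_closure (hf _ _ hqr)
    have := Nat.card_le_card_of_injective _ hinj'
    have h12 : Nat.card (Finset.Icc (1 : ℤ) 12) = 12 := by
      rw [Nat.card_eq_fintype_card, Fintype.card_coe]; rfl
    rw [Nat.card_fun, h12, Nat.card_eq_fintype_card (α := Fin m), Fintype.card_fin] at this
    exact this

end H31
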