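import Mathlib
import Cfsg.Agent.Lib.Jordan.Unitary
import Cfsg.Agent.Lib.Jordan.Blichfeldt
import Cfsg.Agent.Lib.Char.BrauerInd

/-! Jordan's theorem on finite linear groups with an explicit bound. -/

set_option autoImplicit false
set_option linter.style.haveILetI false

namespace H31

open Cfsg
open scoped ComplexConjugate commutatorElement

variable {G : Type*} [Group G]

theorem index_normalCore_dvd_factorial [Finite G] (H : Subgroup G) :
    H.normalCore.index ∣ H.index.factorial := by
  rw [Subgroup.normalCore_eq_ker, Subgroup.index_ker, Subgroup.index_eq_card, ← Nat.card_perm]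
  exact Subgroup.card_subgroup_dvd_card _

theorem index_inf_dvd_mul (A B : Subgroup G) [A.Normal] : (A ⊓ B).index ∣ A.index * B.index := by
  rw [← Subgroup.relIndex_mul_index (inf_le_right : A ⊓ B ≤ B), Subgroup.inf_relIndex_right]
  exact Nat.mul_dvd_mul_right (Subgroup.relIndex_dvd_index_of_normal A B) _

/-- A monomial character is a sum of linear characters on a normal subgroup of index dividing
`n !`. -/
theorem exists_normal_index_dvd_factorial_of_monomial [Fintype G]
    (hM : ∀ ψ : G → ℂ, IsIrrCharacter G ψ →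
      ∃ (H : Subgroup G) (lam : H →* ℂˣ), ψ = indFun H (fun h => (lam h : ℂ)))
    {χ : G → ℂ} (h : IsCharacter G χ) : ∃ n : ℕ, χ 1 = n ∧ ∃ B : Subgroup G, B.Normal ∧
      B.index ∣ n.factorial ∧ ∀ x ∈ B, ∀ y ∈ B, χ ⁅x, y⁆ = χ 1 := by
  refine H6.char_induction (P := fun χ => ∃ n : ℕ, χ 1 = n ∧ ∃ B : Subgroup G, B.Normal ∧
      B.index ∣ n.factorial ∧ ∀ x ∈ B, ∀ y ∈ B, χ ⁅x, y⁆ = χ 1) ?_ ?_ ?_ h
  · exact ⟨0, by simp, ⊤, inferInstance, by simp, by simp⟩
  · intro ψ hψ
    obtain ⟨H, lam, rfl⟩ := hM ψ hψ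
    refine ⟨H.index, by rw [H7.indFun_one]; simp, H.normalCore, inferInstance,
      index_normalCore_dvd_factorial H, fun x hx y hy => ?_⟩
    rw [H7.indFun_apply, H7.indFun_apply]
    congr 1
    refine Finset.sum_congr rfl fun g _ => ?_
    have hx' : g⁻¹ * x * g ∈ H := H.normalCore_le
      ((inferInstance : H.normalCore.Normal).conj_mem' x hx g)
    have hy' : g⁻¹ * y * g ∈ H := H.normalCore_le
      ((inferInstance : H.normalCore.Normal).conj_mem' y hy g)
    have e1 : g⁻¹ * ⁅x, y⁆ * g = ((⁅(⟨_, hx'⟩ : H), (⟨_, hy'⟩ : H)⁆ : H) : G) := by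
      simp only [commutatorElement_def, Subgroup.coe_mul, Subgroup.coe_inv]; group
    have e2 : g⁻¹ * 1 * g = ((1 : H) : G) := by simp
    rw [e1, e2, H7.extendByZero_coe, H7.extendByZero_coe, map_commutatorElement,
      commutatorElement_eq_one_iff_mul_comm.2 (mul_comm _ _), map_one]
  · rintro φ ψ ⟨m, h1, A, hA, hA1, hA2⟩ ⟨n, h2, B, hB, hB1, hB2⟩
    refine ⟨m + n, by simp [h1, h2], A ⊓ B, inferInstance, ?_, fun x hx y hy => ?_⟩
    · exact (index_inf_dvd_mul A B).trans ((Nat.mul_dvd_mul hA1 hB1).trans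
        (Nat.factorial_mul_factorial_dvd_factorial_add m n))
    · simp only [Pi.add_apply, hA2 x hx.1 y hy.1, hB2 x hx.2 y hy.2]

/-- A nilpotent linear group of degree `n` has an abelian normal subgroup of index dividing
`n !`. -/
theorem exists_abelian_normal_of_nilpotent [Finite G] [Group.IsNilpotent G] {χ : G → ℂ}
    (h : IsCharacter G χ) (hf : ∀ g, χ g = χ 1 → g = 1) {n : ℕ} (hn : χ 1 = n) :
    ∃ B : Subgroup G, B.Normal ∧ B.index ∣ n.factorial ∧ ∀ x ∈ B, ∀ y ∈ B, x * y = y * x := by
  haveI := Fintype.ofFinite G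
  obtain ⟨m, hm, B, h1, h2, h3⟩ := exists_normal_index_dvd_factorial_of_monomial
    (fun ψ hψ => H8.exists_ind_hom_of_nilpotent hψ) h
  have : m = n := by rw [hn] at hm; exact_mod_cast hm.symm
  subst this
  exact ⟨B, h1, h2, fun x hx y hy =>
    commutatorElement_eq_one_iff_mul_comm.1 (hf _ (h3 x hx y hy))⟩

theorem prod_pow_factorization_dvd {S : Finset ℕ} (hS : ∀ p ∈ S, p.Prime) (N : ℕ) :
    ∏ p ∈ S, p ^ N.factorization p ∣ N := by
  refine Finset.prod_dvd_of_isRelPrime ?_ fun p _ => Nat.ordProj_dvd N p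
  intro p hp q hq hpq
  exact Nat.coprime_iff_isRelPrime.1
    (Nat.Coprime.pow _ _ ((Nat.coprime_primes (hS p hp) (hS q hq)).2 hpq))

/-- Jordan's theorem. -/
theorem jordan_bound [Finite G] {χ : G → ℂ} (hχ : IsCharacter G χ)
    (hf : ∀ g : G, χ g = χ 1 → g = 1) {n : ℕ} (hn : χ 1 = n) :
    ∃ A : Subgroup G, A.Normal ∧ (∀ x ∈ A, ∀ y ∈ A, x * y = y * x) ∧
      A.index ≤ Nat.factorial n * 12 ^ (n * (Nat.primeCounting (n + 1) + 1)) := by
  obtain ⟨A, hA, hAc, hA12⟩ := exists_abelian_normal_twelve hχ hf hn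
  refine ⟨A, hA, hAc, ?_⟩
  obtain ⟨H, hHc, -, hH⟩ := LinDeg.exists_abelian_hall (G := G) (n := n) ⟨χ, hχ, hf, n, le_rfl, hn⟩
  have hsplit : ∀ L : Subgroup G, A.index = A.relIndex L * (A ⊔ L).index := fun L => by
    rw [← Subgroup.relIndex_sup_left L A, Subgroup.relIndex_mul_index le_sup_left]
  set a := (A ⊔ H).index with ha
  have ha0 : a ≠ 0 := Subgroup.FiniteIndex.index_ne_zero
  have hp : ∀ p ∈ a.primeFactors, p ^ a.factorization p ≤
      12 ^ n * p ^ n.factorial.factorization p := by
    intro p hp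
    have hpp := Nat.prime_of_mem_primeFactors hp
    haveI := Fact.mk hpp
    obtain ⟨P⟩ := (inferInstance : Nonempty (Sylow p G))
    haveI : Group.IsNilpotent P := P.isPGroup'.isNilpotent
    obtain ⟨B, -, hB1, hB2⟩ := exists_abelian_normal_of_nilpotent
      (H6.isCharacter_restrict (P : Subgroup G) hχ)
      (fun g hg => Subtype.ext (hf g hg)) (n := n) hn
    have h1 : p ^ a.factorization p ∣ A.relIndex P := by
      have h2 : p ^ a.factorization p ∣ A.relIndex P * (A ⊔ P).index := by
        rw [← hsplit, hsplit H]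
        exact (Nat.ordProj_dvd a p).mul_left _
      refine Nat.Coprime.dvd_of_dvd_mul_right (Nat.Coprime.pow_left _ ?_) h2
      exact (Nat.Prime.coprime_iff_not_dvd hpp).2 fun hd =>
        P.not_dvd_index (hd.trans (Subgroup.index_dvd_of_le le_sup_right))
    set B' := B.map (P : Subgroup G).subtype with hB'
    have hle : B' ≤ P := Subgroup.map_subtype_le B
    have h3 : B'.relIndex P = B.index := by
      rw [Subgroup.relIndex, hB', Subgroup.subgroupOf,
        Subgroup.comap_map_eq_self_of_injective (P : Subgroup G).subtype_injective]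
    have h4 : B.index ≤ p ^ n.factorial.factorization p := by
      obtain ⟨j, hj⟩ := P.isPGroup'.index B
      rw [hj] at hB1 ⊢
      exact Nat.pow_le_pow_right hpp.pos
        ((hpp.pow_dvd_iff_le_factorization n.factorial_ne_zero).1 hB1)
    have h5 : A.relIndex B' ≤ 12 ^ n := hA12 B' (by
      rintro _ ⟨x, hx, rfl⟩ _ ⟨y, hy, rfl⟩
      exact congrArg Subtype.val (hB2 x hx y hy))
    have h6 : A.relIndex P ≤ A.relIndex B' * B'.relIndex P := by
      have h7 := Subgroup.relIndex_inf_mul_relIndex A B' (P : Subgroup G)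
      rw [inf_of_le_left hle] at h7
      rw [h7]
      exact Subgroup.relIndex_le_of_le_left inf_le_left Subgroup.FiniteIndex.index_ne_zero
    calc p ^ a.factorization p ≤ A.relIndex P :=
          Nat.le_of_dvd (Nat.pos_of_ne_zero Subgroup.FiniteIndex.index_ne_zero) h1
      _ ≤ A.relIndex B' * B'.relIndex P := h6
      _ ≤ _ := by rw [h3]; exact Nat.mul_le_mul h5 h4
  have hcard : a.primeFactors.card ≤ Nat.primeCounting (n + 1) := by
    rw [← Nat.primesLE_card_eq_primeCounting]
    apply Finset.card_le_card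
    intro p hp'
    have hpp := Nat.prime_of_mem_primeFactors hp'
    rw [Nat.mem_primesLE]
    refine ⟨?_, hpp⟩
    by_contra hlt
    exact hH p hpp (not_le.1 hlt) ((Nat.dvd_of_mem_primeFactors hp').trans
      (Subgroup.index_dvd_of_le le_sup_right))
  have ha1 : a ≤ 12 ^ (n * Nat.primeCounting (n + 1)) * n.factorial := by
    calc a = ∏ p ∈ a.primeFactors, p ^ a.factorization p :=
          (Nat.prod_factorization_pow_eq_self ha0).symm
      _ ≤ ∏ p ∈ a.primeFactors, 12 ^ n * p ^ n.factorial.factorization p :=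
          Finset.prod_le_prod' hp
      _ = (12 ^ n) ^ a.primeFactors.card *
            ∏ p ∈ a.primeFactors, p ^ n.factorial.factorization p := by
          rw [Finset.prod_mul_distrib, Finset.prod_const]
      _ ≤ _ := by
          apply Nat.mul_le_mul
          · rw [pow_mul]; exact Nat.pow_le_pow_right (by positivity) hcard
          · exact Nat.le_of_dvd n.factorial_pos
              (prod_pow_factorization_dvd (fun p hp => Nat.prime_of_mem_primeFactors hp) _)
  calc A.index = A.relIndex H * a := hsplit H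
    _ ≤ 12 ^ n * (12 ^ (n * Nat.primeCounting (n + 1)) * n.factorial) :=
        Nat.mul_le_mul (hA12 H hHc) ha1
    _ = _ := by ring

end H31
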