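import Cfsg.Agent.Lib.Jordan.DerLen
import Cfsg.Agent.S5896

/-! # Derived length of `p`-subgroups of `GL(n, F)` and of wreath products -/

set_option autoImplicit false

namespace H31.DL

open Subgroup Module H31.ML

universe u

/-- Base change of a matrix representation. -/
noncomputable def bc {F K P : Type*} [Field F] [Field K] [Group P] (φ : F →+* K) {n : ℕ}
    (ρ : P →* GL (Fin n) F) : Representation K P (Fin n → K) :=
  (Matrix.toLinAlgEquiv' (R := K) (n := Fin n)).toMonoidHom.comp
    (φ.mapMatrix.toMonoidHom.comp ((Units.coeHom _).comp ρ))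

theorem bc_apply {F K P : Type*} [Field F] [Field K] [Group P] (φ : F →+* K) {n : ℕ}
    (ρ : P →* GL (Fin n) F) (g : P) (v : Fin n → K) (i : Fin n) :
    bc φ ρ g v i = ∑ j, φ ((ρ g : Matrix (Fin n) (Fin n) F) i j) * v j := rfl

theorem bc_injective {F K P : Type*} [Field F] [Field K] [Group P] (φ : F →+* K) {n : ℕ}
    {ρ : P →* GL (Fin n) F} (h : Function.Injective ρ) : Function.Injective (bc φ ρ) :=
  (Matrix.toLinAlgEquiv' (R := K) (n := Fin n)).injective.comp
    ((Matrix.map_injective φ.injective).comp (Units.val_injective.comp h))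

theorem finrank_eig_le {F K P : Type*} [Field F] [Field K] [Algebra F K] [Group P] {n : ℕ}
    (ρ : P →* GL (Fin n) F) (g : P) (φ : K ≃ₐ[F] K) (c : K) :
    finrank K (End.eigenspace (bc (algebraMap F K) ρ g) c) ≤
      finrank K (End.eigenspace (bc (algebraMap F K) ρ g) (φ c)) := by
  let j : End.eigenspace (bc (algebraMap F K) ρ g) c →+
      End.eigenspace (bc (algebraMap F K) ρ g) (φ c) :=
    { toFun := fun v => ⟨fun i => φ (v.1 i), End.mem_eigenspace_iff.2 (funext fun i => by
        have := congrArg φ (congrFun (End.mem_eigenspace_iff.1 v.2) i)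
        simpa [bc_apply] using this)⟩
      map_zero' := by ext; simp
      map_add' := fun a b => by ext; simp }
  have h := rank_le_of_surjective_injective φ j φ.surjective
    (fun a b e => Subtype.ext (funext fun i => φ.injective (congrFun (congrArg Subtype.val e) i)))
    fun r m => by ext; simp [j]
  rwa [← finrank_eq_rank, ← finrank_eq_rank, Nat.cast_le] at h

theorem orderOf_card_pos {p q : ℕ} [Fact p.Prime] (h : ¬ p ∣ q) : 0 < orderOf (q : ZMod p) :=
  (isOfFinOrder_iff_pow_eq_one.2 ⟨p - 1, Nat.sub_pos_of_lt (Fact.out : p.Prime).one_lt,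
    ZMod.pow_card_sub_one_eq_one (mt (ZMod.natCast_eq_zero_iff q p).1 h)⟩).orderOf_pos

theorem der_GL_finite {F P : Type*} [Field F] [Fintype F] [Group P] [Finite P] {p n : ℕ}
    [hp : Fact p.Prime] (hq : ¬ p ∣ Fintype.card F) (hP : IsPGroup p P) (ρ : P →* GL (Fin n) F)
    (hρ : Function.Injective ρ) {j : ℕ} (hj : n / orderOf (Fintype.card F : ZMod p) < p ^ j) :
    derivedSeries P j = ⊥ := by
  by_contra h
  obtain ⟨z, hz, hc, ho⟩ := H5.exists_mem_center_orderOf_eq hP _ h
  let K := AlgebraicClosure F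
  let σ := bc (algebraMap F K) ρ
  have hpK : (p : K) ≠ 0 := fun e => hq ((prime_dvd_char_iff_dvd_card p).1
    ((ringChar.spec F p).1 ((algebraMap F K).injective (by simpa using e)) |> fun h => by
      rcases (Nat.dvd_prime hp.out).1 h with h | h
      · exact absurd h CharP.ringChar_ne_one
      · rw [h]))
  have hzp : z ^ p = 1 := ho ▸ pow_orderOf_eq_one z
  have h1 : ∃ c : K, c ≠ 1 ∧ End.eigenspace (σ z) c ≠ ⊥ := by
    by_contra! hh
    have h2 : σ z = σ 1 := eq_of_wsp (ρ := σ) (Z := zpowers z) (le_centralizer _) hpK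
      (fun x hx => by
        obtain ⟨i, rfl⟩ := hx
        rw [← zpow_natCast, ← zpow_mul, mul_comm, zpow_mul, zpow_natCast, hzp, one_zpow])
      fun l v hv => by
        have h3 : σ z v = l ⟨z, mem_zpowers z⟩ • v := hv ⟨z, mem_zpowers z⟩
        by_cases h4 : l ⟨z, mem_zpowers z⟩ = 1
        · simp [h3, h4]
        · simp [(Submodule.mem_bot K).1 (hh _ h4 ▸ End.mem_eigenspace_iff.2 h3)]
    rw [bc_injective _ hρ h2, orderOf_one] at ho
    exact hp.out.one_lt.ne ho
  obtain ⟨c, hc1, hc0⟩ := h1
  obtain ⟨v, hv, hv0⟩ := (Submodule.ne_bot_iff _).1 hc0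
  have hcp : c ^ p = 1 := by
    have h2 := End.HasEigenvector.pow_apply (f := σ z) ⟨hv, hv0⟩ p
    rw [← map_pow, hzp, map_one, End.one_apply] at h2
    exact smul_left_injective K hv0 (by simpa using h2.symm)
  have hoc : orderOf c = p := orderOf_eq_prime hcp hc1
  set e := orderOf (Fintype.card F : ZMod p)
  have h2 : Function.Injective fun i : Fin e => c ^ Fintype.card F ^ (i : ℕ) := fun a b hab => by
    have h3 := (isOfFinOrder_iff_pow_eq_one.2 ⟨p, hp.out.pos, hcp⟩).pow_eq_pow_iff_modEq.1 hab
    rw [hoc, ← ZMod.natCast_eq_natCast_iff] at h3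
    push_cast at h3
    exact Fin.ext (pow_injOn_Iio_orderOf a.2 b.2 h3)
  have h3 := sum_finrank_le ((End.eigenspaces_iSupIndep (σ z)).comp h2) (fun _ => le_rfl)
    Finset.univ (U := ⊤) fun _ _ => le_top
  have h4 : ∀ i : ℕ, finrank K (End.eigenspace (σ z) c) ≤
      finrank K (End.eigenspace (σ z) (c ^ Fintype.card F ^ i)) := fun i => by
    induction i with
    | zero => rw [pow_zero, pow_one]
    | succ i ih =>
      rw [pow_succ, pow_mul]
      exact ih.trans (finrank_eig_le ρ z (FiniteField.frobeniusAlgEquivOfAlgebraic F K) _)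
  have h5 := (Finset.card_nsmul_le_sum _ _ _ fun (i : Fin e) _ => h4 i).trans h3
  rw [finrank_top, finrank_fin_fun, Finset.card_fin, smul_eq_mul, mul_comm,
    ← Nat.le_div_iff_mul_le (orderOf_card_pos hq)] at h5
  have h6 := der_le_ker_cross hpK _ (⊤ : Subgroup P) (End.eigenspace (σ z) c)
    (resRep σ ⊤ _ fun g _ w hw => End.mem_eigenspace_iff.2 (by
      rw [← End.mul_apply, ← map_mul, ← mem_center_iff.1 hc g, map_mul, End.mul_apply,
        End.mem_eigenspace_iff.1 hw, map_smul])) (hP.to_subgroup _) rfl j (h5.trans_lt hj)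
  obtain ⟨x, hx, rfl⟩ := der_add_le (⊤ : Subgroup P).subtype (j := 0) (by simp) j
    (by rwa [zero_add])
  have h7 : σ x v = v := congrArg Subtype.val (LinearMap.congr_fun (h6 hx) ⟨v, hv⟩)
  exact hc1 (smul_left_injective K hv0 (by
    simpa using (End.mem_eigenspace_iff.1 hv).symm.trans h7))

theorem der_ne_bot_of_injective {W G : Type*} [Group W] [Group G] (f : W →* G)
    (hf : Function.Injective f) {j : ℕ} (h : derivedSeries W j ≠ ⊥) : derivedSeries G j ≠ ⊥ :=
  fun e => h ((map_eq_bot_iff_of_injective _ hf).1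
    (le_bot_iff.1 (e ▸ map_derivedSeries_le_derivedSeries f j)))

theorem der_ne_bot_sylow {W G : Type*} [Group W] [Group G] [Finite G] {p : ℕ} [Fact p.Prime]
    (hW : IsPGroup p W) (f : W →* G) (hf : Function.Injective f) {j : ℕ}
    (h : derivedSeries W j ≠ ⊥) (P : Sylow p G) : derivedSeries P j ≠ ⊥ := by
  obtain ⟨Q, hQ⟩ := (hW.of_surjective _ f.rangeRestrict_surjective).exists_le_sylow
  exact der_ne_bot_of_injective
    ((Q.equiv P).toMonoidHom.comp ((inclusion hQ).comp f.rangeRestrict))
    ((Q.equiv P).injective.comp ((inclusion_injective hQ).comp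
      (MonoidHom.rangeRestrict_injective_iff.2 hf))) h

theorem der_wreath {D Q : Type*} [Group D] [Group Q] [Nontrivial Q] {d : ℕ}
    (hd : derivedSeries D d ≠ ⊥) : derivedSeries (D ≀ᵣ Q) (d + 1) ≠ ⊥ := fun h => by
  obtain ⟨q, hq⟩ := exists_ne (1 : Q)
  refine Cfsg.Agent.S5896.derived_ne_bot hd (commutator (D ≀ᵣ Q)) (fun s => ?_) ?_
  · obtain ⟨b, h1, h2⟩ := Cfsg.Agent.S5896.comm_elt hq s
    exact ⟨_, commutator_mem_commutator (mem_top b) (mem_top (RegularWreathProduct.inl q)), h1, h2⟩
  · have h1 := Cfsg.Agent.S5896.derived_commutator_le (D ≀ᵣ Q) d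
    rwa [h, le_bot_iff, map_eq_bot_iff_of_injective _ (subtype_injective _)] at h1

theorem isPGroup_wreath {D Q : Type*} [Group D] [Group Q] [Finite D] [Finite Q] {p : ℕ}
    [Fact p.Prime] (hD : IsPGroup p D) (hQ : IsPGroup p Q) : IsPGroup p (D ≀ᵣ Q) := by
  obtain ⟨a, ha⟩ := hD.exists_card_eq
  obtain ⟨b, hb⟩ := hQ.exists_card_eq
  exact .of_card (by rw [RegularWreathProduct.card, ha, hb, ← pow_mul, ← pow_add])

/-- The induced representation of a wreath product. -/
def wrRep {F D V : Type*} (Q : Type*) [Field F] [Group D] [Group Q] [AddCommGroup V] [Module F V]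
    (ρ : Representation F D V) : Representation F (D ≀ᵣ Q) (Q → V) where
  toFun w := LinearMap.pi fun q => ρ (w.left q) ∘ₗ LinearMap.proj (w.right⁻¹ * q)
  map_one' := by ext; simp
  map_mul' a b := by ext; simp [mul_assoc]

theorem wrRep_injective {F D V Q : Type*} [Field F] [Group D] [Group Q] [AddCommGroup V]
    [Module F V] [Nontrivial V] {ρ : Representation F D V} (h : Function.Injective ρ) :
    Function.Injective (wrRep Q ρ) := by
  classical
  refine (injective_iff_map_eq_one _).2 fun w hw => ?_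
  have h1 : ∀ (f : Q → V) q, ρ (w.left q) (f (w.right⁻¹ * q)) = f q := fun f q =>
    congrFun (LinearMap.congr_fun hw f) q
  obtain ⟨v, hv⟩ := exists_ne (0 : V)
  have h2 : w.right = 1 := by
    by_contra e
    have := h1 (Pi.single 1 v) 1
    simp [e] at this
    exact hv this.symm
  exact RegularWreathProduct.ext (funext fun q => h (by
    ext v; simpa using h1 (fun _ => v) q)) h2

theorem exists_GL_of_rep {F W V : Type*} [Field F] [Group W] [AddCommGroup V] [Module F V]
    [FiniteDimensional F V] (ρ : Representation F W V) (h : Function.Injective ρ) {n : ℕ}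
    (hn : finrank F V ≤ n) : ∃ f : W →* GL (Fin n) F, Function.Injective f := by
  let σ : W →* End F (V × (Fin (n - finrank F V) → F)) :=
    { toFun := fun g => (ρ g).prodMap LinearMap.id
      map_one' := by ext <;> simp
      map_mul' := fun a b => by ext <;> simp }
  let b := finBasisOfFinrankEq F (V × (Fin (n - finrank F V) → F)) (n := n) (by simp; omega)
  refine ⟨((LinearMap.toMatrixAlgEquiv b).toMonoidHom.comp σ).toHomUnits, fun x y e => h ?_⟩
  have h1 : σ x = σ y := (LinearMap.toMatrixAlgEquiv b).injective (congrArg Units.val e)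
  ext v
  exact congrArg Prod.fst (LinearMap.congr_fun h1 (v, 0))

theorem exists_rep_der {F : Type u} [Field F] [Fintype F] {p : ℕ} [hp : Fact p.Prime]
    (hq : ¬ p ∣ Fintype.card F) (j : ℕ) : ∃ (W V : Type u) (_ : Group W) (_ : Finite W)
      (_ : AddCommGroup V) (_ : Module F V) (_ : FiniteDimensional F V) (ρ : Representation F W V),
      Function.Injective ρ ∧ IsPGroup p W ∧ derivedSeries W j ≠ ⊥ ∧
        finrank F V = p ^ j * orderOf (Fintype.card F : ZMod p) := by
  have he := orderOf_card_pos hq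
  induction j with
  | zero =>
    obtain ⟨z, hz⟩ := exists_prime_orderOf_dvd_card' (G := GL (Fin (orderOf (Fintype.card F : ZMod p))) F)
      p (by
        rw [Matrix.card_GL_field]
        refine dvd_trans ?_ (Finset.dvd_prod_of_mem _ (Finset.mem_univ ⟨0, he⟩))
        rw [pow_zero, ← Nat.modEq_iff_dvd' (Nat.one_le_pow _ _ Fintype.card_pos),
          ← ZMod.natCast_eq_natCast_iff]
        push_cast
        exact (pow_orderOf_eq_one _).symm)
    have h1 : Nat.card (zpowers z) = p := by rw [Nat.card_zpowers, hz]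
    have : Nontrivial (zpowers z) := Finite.one_lt_card_iff_nontrivial.1 (h1.symm ▸ hp.out.one_lt)
    exact ⟨zpowers z, _, _, inferInstance, _, _, inferInstance, bc (RingHom.id F) (zpowers z).subtype,
      bc_injective _ (subtype_injective _), .of_card (h1.trans (pow_one p).symm), top_ne_bot, by simp⟩
  | succ j ih =>
    obtain ⟨W, V, _, _, _, _, _, ρ, h1, h2, h3, h4⟩ := ih
    have : Nontrivial V := nontrivial_of_finrank_pos (R := F) (by
      rw [h4]; exact Nat.mul_pos (pow_pos hp.out.pos _) he)
    exact ⟨W ≀ᵣ Multiplicative (ZMod p), _, _, inferInstance, _, _, inferInstance, wrRep _ ρ,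
      wrRep_injective h1, isPGroup_wreath h2 (.of_card (n := 1) (by simp)), der_wreath h3, by
        simp [finrank_pi_fintype, h4]; ring⟩

end H31.DL
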